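import Cfsg.Agent.H770.CY.Defs
import Cfsg.Agent.Characters.GaloisBasic

/-!
# S4829, `Row2`: rational valued characters of odd degree fixed by a `2`-group of automorphisms

`row2_of` : the form with a function `χ : S → ℂ` of `Row2`.
-/

set_option autoImplicit false

namespace Cfsg.Agent.H601.R2

open Cfsg Cfsg.Agent.H770.CY

universe u

/-- a nontrivial rational valued irreducible character of odd degree fixed by the automorphisms in `B` -/
def RatInv (S : Type u) [Group S] (B : Subgroup (MulAut S)) : Prop :=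
  ∃ χ : S → ℂ, IsIrrCharacter S χ ∧ χ ≠ 1 ∧ (∃ d : ℕ, Odd d ∧ χ 1 = d) ∧ (∀ g : S, ∃ q : ℚ, χ g = q) ∧
    ∀ b ∈ B, ∀ x : S, χ (b x) = χ x

theorem cyc_of_rat {S : Type u} [Group S] [Finite S] {p : ℕ} {χ : S → ℂ} (hχ : IsCharacter S χ)
    (h : ∀ g : S, ∃ q : ℚ, χ g = q) : Cyc p χ := by
  intro k hk _ g
  obtain ⟨σ, hσ⟩ := Characters.GaloisBasic.exists_ringEquiv_pow (n := Nat.card S) (m := k) Nat.card_pos.ne' hk
  obtain ⟨q, hq⟩ := h g
  rw [← Characters.GaloisBasic.map_apply_card σ hσ hχ g, hq]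
  exact map_ratCast σ q

theorem row2_of {S : Type u} [Group S] [Finite S]
    (h : ∀ B : Subgroup (MulAut S), IsPGroup 2 B → RatInv S B) : Row2 S := by
  intro B hB
  obtain ⟨χ, h1, h2, ⟨d, hd, hd1⟩, h3, h4⟩ := h B hB
  have hch : IsCharacter S χ := by
    obtain ⟨n, ρ, -, rfl⟩ := h1
    exact ⟨n, ρ, rfl⟩
  refine ⟨⟨χ, h1⟩, fun h => h2 h, ?_, cyc_of_rat hch h3, h4⟩
  have h5 : charDegree χ = d := by
    unfold charDegree
    rw [hd1]
    simp
  change Odd (charDegree χ)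
  rw [h5]
  exact hd

end Cfsg.Agent.H601.R2
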