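import Cfsg.Agent.H601.R2.Base
import Cfsg.Agent.H707.GalTrace
import Cfsg.Agent.FixBN.TwOfBN

/-!
# S4829, `Row2` for the groups of Lie type in odd characteristic

The Steinberg character of a group with a split (B, N)-pair is invariant under every automorphism: the automorphism
acts on the building (with a permutation of the types) and so on the Steinberg space.
-/

set_option autoImplicit false

namespace Cfsg.Agent.H601.R2

open Cfsg Cfsg.Agent.H770.CY Cfsg.Agent.Tits.Core Cfsg.Agent.Tits.Core.Bldg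

universe u

section Abs

variable {I : Type*} {M : CoxeterMatrix I} {W : Type*} [Group W] {cs : CoxeterSystem M W} {C : Type*}
  [Fintype C] (Δ : Bldg cs C)

/-- a permutation of the chambers which permutes the types of panels preserves the Steinberg space -/
theorem comp_mem_St (θ : C ≃ C) (τ : I → I) (h : ∀ i x y, y ∈ Δ.Pan i x ↔ θ y ∈ Δ.Pan (τ i) (θ x)) {f : C → ℂ}
    (hf : f ∈ H163.Steinberg.St Δ) : (fun x => f (θ x)) ∈ H163.Steinberg.St Δ := by
  classical
  intro i x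
  have h1 := hf (τ i) (θ x)
  unfold H163.Steinberg.psum at h1 ⊢
  refine Eq.trans ?_ h1
  refine Eq.trans (Finset.sum_congr rfl fun y _ => ?_)
    (Equiv.sum_comp θ (fun y => if y ∈ Δ.Pan (τ i) (θ x) then f y else 0))
  simp only [h i x y]

/-- the operator on the Steinberg space -/
noncomputable def opSt (θ : C ≃ C) (τ : I → I) (h : ∀ i x y, y ∈ Δ.Pan i x ↔ θ y ∈ Δ.Pan (τ i) (θ x)) :
    H163.Steinberg.St Δ →ₗ[ℂ] H163.Steinberg.St Δ where
  toFun f := ⟨fun x => (f : C → ℂ) (θ x), comp_mem_St Δ θ τ h f.2⟩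
  map_add' _ _ := rfl
  map_smul' _ _ := rfl

theorem opSt_injective (θ : C ≃ C) (τ : I → I) (h : ∀ i x y, y ∈ Δ.Pan i x ↔ θ y ∈ Δ.Pan (τ i) (θ x)) :
    Function.Injective (opSt Δ θ τ h) := by
  intro f g hfg
  apply Subtype.ext
  funext x
  have h1 := congrFun (congrArg Subtype.val hfg) (θ.symm x)
  change (f : C → ℂ) (θ (θ.symm x)) = (g : C → ℂ) (θ (θ.symm x)) at h1
  rwa [θ.apply_symm_apply] at h1

variable {G : Type*} [Group G] [MulAction G C] [Finite G] [Finite W] {p : ℕ} (S : FixBN.Sys Δ G p)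

omit [Finite G] [Finite W] in
theorem character_map (β : G ≃* G) (θ : C ≃ C) (τ : I → I)
    (h : ∀ i x y, y ∈ Δ.Pan i x ↔ θ y ∈ Δ.Pan (τ i) (θ x)) (hβ : ∀ (g : G) (x : C), θ (g • x) = β g • θ x) (g : G) :
    (H163.Steinberg.rep (G := G) S.iso).character (β g) = (H163.Steinberg.rep (G := G) S.iso).character g := by
  classical
  let e : H163.Steinberg.St Δ ≃ₗ[ℂ] H163.Steinberg.St Δ :=
    LinearEquiv.ofInjectiveEndo (opSt Δ θ τ h) (opSt_injective Δ θ τ h)
  have h1 : e.conj (H163.Steinberg.rep (G := G) S.iso (β g)) = H163.Steinberg.rep (G := G) S.iso g := by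
    apply LinearMap.ext
    intro f
    obtain ⟨f', rfl⟩ := e.surjective f
    rw [LinearEquiv.conj_apply_apply, e.symm_apply_apply]
    apply Subtype.ext
    funext x
    change (f' : C → ℂ) ((β g)⁻¹ • θ x) = (f' : C → ℂ) (θ (g⁻¹ • x))
    rw [hβ, map_inv]
  change LinearMap.trace ℂ _ _ = LinearMap.trace ℂ _ _
  rw [← h1, LinearMap.trace_conj']

end Abs

open Cfsg.Agent.LieExceptional.BNPairCore Cfsg.Agent.Tits.OfBN
  Cfsg.Agent.Schreier.BNSch Cfsg.Agent.Tits.OppRes Cfsg.Agent.FixBN.OfBN Cfsg.Agent.FixBN.TwOfBN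

variable {K : Type*} [Group K] {P : Cfsg.BNPair K} {p : ℕ} {U : Subgroup K}

/-- every automorphism acts on the building -/
theorem exists_act (S : FixBN.Split P p U) [Finite K] [Fact p.Prime] [hN : ((P.B ⊓ P.N).subgroupOf P.N).Normal]
    {I : Type*} {M : CoxeterMatrix I} (e : I ≃ P.S) (cs : CoxeterSystem M (WP P))
    (hcs : ∀ i, cs.simple i = QuotientGroup.mk (⟨(e i : K), P.subset (e i).2⟩ : P.N)) (τ : K ≃* K) :
    ∃ (θ : (K ⧸ P.B) ≃ (K ⧸ P.B)) (σ : I → I),
      (∀ i x y, y ∈ (bldg P e cs hcs).Pan i x ↔ θ y ∈ (bldg P e cs hcs).Pan (σ i) (θ x)) ∧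
      ∀ (g : K) (x : K ⧸ P.B), θ (g • x) = τ g • θ x := by
  obtain ⟨g, hg⟩ := exists_conj S τ
  set α : K ≃* K := τ.trans (MulAut.conj g⁻¹) with hαdef
  have hα' : ∀ b, α b = g⁻¹ * τ b * g := by
    intro b
    rw [hαdef]
    simp
  have hα : ∀ b, α b ∈ P.B ↔ b ∈ P.B := fun b => by rw [hα']; exact hg b
  have hθwd : ∀ a b : K, a⁻¹ * b ∈ P.B ↔ (QuotientGroup.mk (τ a * g) : K ⧸ P.B) = QuotientGroup.mk (τ b * g) := by
    intro a b
    rw [FixBN.OfBN.mk_eq]
    have h1 : (τ a * g)⁻¹ * (τ b * g) = α (a⁻¹ * b) := by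
      rw [hα', map_mul, map_inv]; group
    rw [h1, hα]
  set θ₀ : K ⧸ P.B → K ⧸ P.B := Quotient.lift (fun a : K => (QuotientGroup.mk (τ a * g) : K ⧸ P.B))
    (fun a b h => (hθwd a b).1 (QuotientGroup.leftRel_apply.1 h)) with hθ₀
  have hθ : ∀ a : K, θ₀ (QuotientGroup.mk a) = QuotientGroup.mk (τ a * g) := fun a => rfl
  have hinj : Function.Injective θ₀ := by
    intro x y h
    induction x using QuotientGroup.induction_on with
    | _ a =>
    induction y using QuotientGroup.induction_on with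
    | _ b =>
    rw [hθ, hθ] at h
    exact FixBN.OfBN.mk_eq.2 ((hθwd a b).2 h)
  have hsurj : Function.Surjective θ₀ := by
    intro x
    induction x using QuotientGroup.induction_on with
    | _ a =>
    refine ⟨QuotientGroup.mk (τ.symm (a * g⁻¹)), ?_⟩
    rw [hθ, τ.apply_symm_apply]
    congr 1
    group
  have hδ : ∀ x y, (bldg P e cs hcs).δ (θ₀ x) (θ₀ y) = fW P α ((bldg P e cs hcs).δ x y) := by
    intro x y
    induction x using QuotientGroup.induction_on with
    | _ a =>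
    induction y using QuotientGroup.induction_on with
    | _ b =>
    rw [hθ, hθ, bldg_δ_mk, bldg_δ_mk, fW_wt α hα]
    congr 1
    rw [hα', map_mul, map_inv]; group
  refine ⟨Equiv.ofBijective θ₀ ⟨hinj, hsurj⟩, sigma α hα e cs hcs, ?_, ?_⟩
  · intro i x y
    rw [(bldg P e cs hcs).mem_Pan, (bldg P e cs hcs).mem_Pan]
    change _ ↔ θ₀ y = θ₀ x ∨ (bldg P e cs hcs).δ (θ₀ x) (θ₀ y) = _
    rw [hδ, ← fW_simple α hα e cs hcs, hinj.eq_iff, (fW_injective α hα).eq_iff]
  · intro k x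
    induction x using QuotientGroup.induction_on with
    | _ a =>
    show θ₀ (k • QuotientGroup.mk a) = τ k • θ₀ (QuotientGroup.mk a)
    rw [FixBN.OfBN.smul_mk, hθ, hθ, FixBN.OfBN.smul_mk, map_mul, mul_assoc]

/-- **The Steinberg character** is rational valued and invariant under all automorphisms. -/
theorem exists_steinberg {K : Type*} [Group K] [Finite K] {p : ℕ} [Fact p.Prime] (h : FixBN.HasSplit p K) :
    ∃ χ : K → ℂ, IsIrrCharacter K χ ∧ (∀ g : K, ∃ q : ℚ, χ g = q) ∧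
      (∀ Q : Sylow p K, χ 1 = Nat.card Q ∧ ∀ x : K, x ∈ Q → x ≠ 1 → χ x = 0) ∧
      ∀ (β : MulAut K) (g : K), χ (β g) = χ g := by
  obtain ⟨P, U, -, h⟩ := h
  have hN : ((P.B ⊓ P.N).subgroupOf P.N).Normal := Tits.OfBN.normal_subgroupOf P
  obtain ⟨M, cs, hcs⟩ := S0320.result P
  have S := FixBN.OfBN.sys (Equiv.refl P.S) cs hcs h
  have : Fintype (K ⧸ P.B) := Fintype.ofFinite _
  have : Finite (WP P) := Quotient.finite _
  have hopp : ∀ c : K ⧸ P.B, ∃ d, (bldg P (Equiv.refl P.S) cs hcs).Opp c d := fun c => Tits.Opp.exists_opp _ c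
  have hirr := H163.Steinberg.isIrreducible S (fun x y => MulAction.exists_smul_eq K x y)
    (QuotientGroup.mk 1 : K ⧸ P.B) (hopp _)
  refine ⟨(H163.Steinberg.rep (G := K) S.iso).character, Characters.Core.isIrrCharacter_of_rep _ hirr,
    H707.GalTrace.rat_character _ S, fun Q => ?_, fun β g => ?_⟩
  · obtain ⟨c, hc⟩ := S.exists_fix Q Q.isPGroup'
    have hQ : (Q : Subgroup K) = S.U c :=
      (Q.is_maximal' (S.isP c) (S.max c Q Q.isPGroup' hc)).symm
    constructor
    · rw [H163.Steinberg.character_apply S c (hopp c) 1 (one_mem _), if_pos rfl, ← hQ]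
    · intro x hx hx1
      have hx' : x ∈ S.U c := by rw [← hQ]; exact hx
      rw [H163.Steinberg.character_apply S c (hopp c) x hx', if_neg hx1]
  · obtain ⟨θ, σ, h1, h2⟩ := exists_act h (Equiv.refl P.S) cs hcs β
    exact character_map _ S β θ σ h1 h2 g

/-- `Row2` from a split (B, N)-pair of odd characteristic -/
theorem row2_of_hasSplit {K : Type u} [Group K] [Finite K] {p : ℕ} [hp : Fact p.Prime] (hp2 : p ≠ 2)
    (h : FixBN.HasSplit p K) : Row2 K := by
  apply row2_of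
  intro B _
  obtain ⟨χ, h1, h2, h3, h4⟩ := exists_steinberg h
  refine ⟨χ, h1, ?_, ?_, h2, fun b _ x => h4 b x⟩
  · rintro rfl
    obtain ⟨P, U, ⟨s, hs⟩, hU⟩ := h
    obtain ⟨V, hV⟩ := hU.node s hs
    obtain ⟨u, hu, huV⟩ := hV.ne
    have hu1 : u ≠ 1 := fun h => huV (h ▸ one_mem V)
    obtain ⟨Q, hQ⟩ := hU.isP.exists_le_sylow
    have h4 := (h3 Q).2 u (hQ hu) hu1
    exact one_ne_zero h4
  · obtain ⟨Q⟩ : Nonempty (Sylow p K) := inferInstance
    refine ⟨Nat.card Q, ?_, (h3 Q).1⟩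
    obtain ⟨k, hk⟩ := Q.isPGroup'.exists_card_eq
    rw [hk]
    exact (hp.out.odd_of_ne_two hp2).pow

end Cfsg.Agent.H601.R2
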