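import Cfsg.Agent.H601.R2.Odd
import Cfsg.Agent.H996.AllSplit

/-!
# S4829, `Row2` for the groups of Lie type in odd characteristic
-/

set_option autoImplicit false

namespace Cfsg.Agent.H601.R2

open Cfsg Cfsg.Agent.H770.CY

universe u

/-- **`Row2` for all groups of Lie type in odd characteristic.** -/
theorem row2_odd {p : ℕ} (hp : p.Prime) (hp2 : p ≠ 2) {K : Type u} [Group K] [Finite K] [IsSimpleGroup K]
    (h : IsLieTypeChar p K) : Row2 K := by
  have : Fact p.Prime := ⟨hp⟩
  exact row2_of_hasSplit hp2 (H996.AllSplit.hasSplit_of_lie hp h)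

end Cfsg.Agent.H601.R2
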